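import Cfsg.Agent.Lib.Char.AltCover.Scalar
import Mathlib.GroupTheory.SpecificGroups.Alternating
import Mathlib.GroupTheory.Commutator.Basic
import Mathlib.GroupTheory.OrderOfElement
import Mathlib.Analysis.Real.Sqrt
import Mathlib.Tactic.LinearCombination
import Mathlib.Tactic.Group
import Mathlib.Tactic.Abel

/-!
# The double cover of the alternating group inside a Clifford algebra
-/

set_option autoImplicit false

namespace CfsgLib.AltCover

open CliffordAlgebra Equiv
open scoped commutatorElement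

variable {n : ℕ}

/-- The Clifford algebra of the sum of `n` squares. -/
abbrev Alg (n : ℕ) := CliffordAlgebra (sq n)

/-- The standard generators. -/
noncomputable def e (l : Fin n) : Alg n := ι (sq n) (Pi.single l (1 : ℂ))

theorem e_injective : Function.Injective (e : Fin n → Alg n) := by
  intro a b h
  have := congrFun (ι_injective n h) a
  by_contra hab
  simp [hab] at this

/-- The unit vector along `eᵢ - eⱼ`. -/
noncomputable def rootVec (i j : Fin n) : Alg n :=
  ι (sq n) ((((Real.sqrt 2)⁻¹ : ℝ) : ℂ) • (Pi.single i (1 : ℂ) - Pi.single j (1 : ℂ)))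

theorem sqrtTwo : (((Real.sqrt 2)⁻¹ : ℝ) : ℂ) * (((Real.sqrt 2)⁻¹ : ℝ) : ℂ) * 2 = 1 := by
  rw [← Complex.ofReal_mul, ← mul_inv, Real.mul_self_sqrt (by norm_num)]
  norm_num

theorem rootVec_sq {i j : Fin n} (h : i ≠ j) : rootVec i j * rootVec i j = 1 := by
  rw [rootVec, ι_sq_scalar, show sq n _ = 1 from ?_, map_one]
  rw [QuadraticMap.map_smul, sq_apply, Finset.sum_eq_add_of_mem i j (Finset.mem_univ _)
    (Finset.mem_univ _) h (fun l _ hl => by simp [hl.1, hl.2])]
  simp only [Pi.sub_apply, Pi.single_eq_same, Pi.single_eq_of_ne h, Pi.single_eq_of_ne h.symm,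
    smul_eq_mul]
  linear_combination sqrtTwo

theorem rootVec_e {i j : Fin n} (h : i ≠ j) (l : Fin n) :
    rootVec i j * e l = -(e (Equiv.swap i j l) * rootVec i j) := by
  set c : ℂ := (((Real.sqrt 2)⁻¹ : ℝ) : ℂ) with hc
  set v : Fin n → ℂ := c • (Pi.single i (1 : ℂ) - Pi.single j (1 : ℂ)) with hv
  set d : ℂ := (if l = i then (1 : ℂ) else 0) - (if l = j then (1 : ℂ) else 0) with hd
  have hp : QuadraticMap.polar (sq n) v (Pi.single l (1 : ℂ)) = 2 * c * d := by
    rw [polar_sq, Finset.sum_eq_single l (fun b _ hb => by simp [hb]) (fun hl => absurd (Finset.mem_univ l) hl)]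
    simp [hv, hd, Pi.single_apply]
    ring
  have key : (Pi.single l (1 : ℂ) : Fin n → ℂ) - (2 * c * d) • v = Pi.single (Equiv.swap i j l) (1 : ℂ) := by
    have h2 : (2 * c * d) • v = d • (Pi.single i (1 : ℂ) - Pi.single j (1 : ℂ)) := by
      rw [hv, smul_smul, show 2 * c * d * c = d by linear_combination d * sqrtTwo]
    rw [h2]
    rcases eq_or_ne l i with rfl | hli
    · simp [hd, h]
    rcases eq_or_ne l j with rfl | hlj
    · simp [hd, h.symm]
    · simp [hd, hli, hlj, Equiv.swap_apply_of_ne_of_ne hli hlj]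
  have hcomm : rootVec i j * e l =
      algebraMap ℂ _ (QuadraticMap.polar (sq n) v (Pi.single l (1 : ℂ))) - e l * rootVec i j := by
    rw [← ι_mul_ι_add_swap]
    simp [rootVec, e, hv, hc]
  rw [hcomm, hp]
  simp only [e]
  rw [← key, map_sub, map_smul]
  have hsq : rootVec i j * rootVec i j = 1 := rootVec_sq h
  rw [show ι (sq n) v = rootVec i j from rfl, sub_mul, smul_mul_assoc, hsq,
    Algebra.algebraMap_eq_smul_one]
  abel

theorem rootVec_odd (i j : Fin n) : rootVec i j ∈ evenOdd (sq n) 1 := ι_mem_evenOdd_one _ _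

theorem reverse_rootVec (i j : Fin n) : reverse (rootVec i j) = rootVec i j := reverse_ι _

theorem exists_lift (σ : Equiv.Perm (Fin n)) :
    ∃ (x : Alg n) (a : ZMod 2), x ∈ evenOdd (sq n) a ∧ x * reverse x = 1 ∧ reverse x * x = 1 ∧
      ((a = 0 ∧ Equiv.Perm.sign σ = 1) ∨ (a = 1 ∧ Equiv.Perm.sign σ = -1)) ∧
      ∀ l, x * e l = ((Equiv.Perm.sign σ : ℤ) : ℂ) • (e (σ l) * x) := by
  induction σ using Equiv.Perm.swap_induction_on with
  | one =>
    refine ⟨1, 0, SetLike.one_mem_graded (evenOdd (sq n)), by simp, by simp, Or.inl ⟨rfl, map_one _⟩, fun l => ?_⟩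
    simp
  | swap_mul f i j h hf =>
    obtain ⟨x, a, hx, h1, h2, hs, he⟩ := hf
    have hsgn : Equiv.Perm.sign (Equiv.swap i j * f) = -Equiv.Perm.sign f := by
      rw [map_mul, Equiv.Perm.sign_swap h, neg_one_mul]
    refine ⟨rootVec i j * x, 1 + a, SetLike.mul_mem_graded (rootVec_odd i j) hx, ?_, ?_, ?_, fun l => ?_⟩
    · rw [reverse.map_mul, reverse_rootVec, mul_assoc, ← mul_assoc x, h1, one_mul, rootVec_sq h]
    · rw [reverse.map_mul, reverse_rootVec, mul_assoc, ← mul_assoc (rootVec i j), rootVec_sq h,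
        one_mul, h2]
    · rw [hsgn]
      rcases hs with ⟨rfl, e1⟩ | ⟨rfl, e1⟩ <;> rw [e1]
      · exact Or.inr ⟨rfl, rfl⟩
      · exact Or.inl ⟨rfl, by simp⟩
    · rw [hsgn, mul_assoc, he, mul_smul_comm, ← mul_assoc, rootVec_e h, neg_mul, mul_assoc,
        Equiv.Perm.mul_apply]
      simp

/-- The double cover. -/
noncomputable def cover (n : ℕ) : Subgroup (Alg n)ˣ where
  carrier := {x | (x : Alg n) ∈ evenOdd (sq n) 0 ∧ (x : Alg n) * reverse (x : Alg n) = 1 ∧
    ∃ σ : Equiv.Perm (Fin n), Equiv.Perm.sign σ = 1 ∧ ∀ l, (x : Alg n) * e l = e (σ l) * x}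
  one_mem' := ⟨SetLike.one_mem_graded (evenOdd (sq n)), by simp, 1, map_one _, fun l => by simp⟩
  mul_mem' := by
    rintro x y ⟨hx, hx1, σ, hσ, hxe⟩ ⟨hy, hy1, τ, hτ, hye⟩
    refine ⟨?_, ?_, σ * τ, by rw [map_mul, hσ, hτ, one_mul], fun l => ?_⟩
    · have := SetLike.mul_mem_graded hx hy
      simpa using this
    · rw [Units.val_mul, reverse.map_mul, mul_assoc, ← mul_assoc (y : Alg n), hy1, one_mul, hx1]
    · rw [Units.val_mul, mul_assoc, hye, ← mul_assoc, hxe, mul_assoc, Equiv.Perm.mul_apply]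
  inv_mem' := by
    rintro x ⟨hx, hx1, σ, hσ, hxe⟩
    have hi : ((x⁻¹ : (Alg n)ˣ) : Alg n) = reverse (x : Alg n) :=
      Units.inv_eq_of_mul_eq_one_right hx1
    refine ⟨?_, ?_, σ⁻¹, by rw [map_inv, hσ, inv_one], fun l => ?_⟩
    · rw [hi, reverse_mem_evenOdd_iff]; exact hx
    · rw [hi, reverse_reverse, ← hi, Units.inv_mul]
    · have h := hxe (σ⁻¹ l)
      rw [Equiv.Perm.coe_inv, Equiv.apply_symm_apply] at h
      rw [Units.inv_mul_eq_iff_eq_mul, ← mul_assoc, Equiv.Perm.coe_inv, h, Units.mul_inv_cancel_right]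

theorem perm_unique {x : (Alg n)ˣ} {σ τ : Equiv.Perm (Fin n)}
    (h : ∀ l, (x : Alg n) * e l = e (σ l) * x) (h' : ∀ l, (x : Alg n) * e l = e (τ l) * x) :
    σ = τ :=
  Equiv.ext fun l => e_injective (x.isUnit.mul_left_injective ((h l).symm.trans (h' l)))

/-- The projection to the alternating group. -/
noncomputable def proj (n : ℕ) : cover n →* alternatingGroup (Fin n) where
  toFun x := ⟨x.2.2.2.choose, x.2.2.2.choose_spec.1⟩
  map_one' := Subtype.ext (perm_unique (x := ((1 : cover n) : (Alg n)ˣ))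
    (1 : cover n).2.2.2.choose_spec.2 (fun l => by simp))
  map_mul' x y := Subtype.ext (perm_unique (x := ((x * y : cover n) : (Alg n)ˣ))
    (x * y).2.2.2.choose_spec.2 (fun l => by
      rw [Subgroup.coe_mul, Units.val_mul, Subgroup.coe_mul, Equiv.Perm.mul_apply, mul_assoc,
        y.2.2.2.choose_spec.2, ← mul_assoc, x.2.2.2.choose_spec.2, mul_assoc]))

theorem proj_spec (x : cover n) (l : Fin n) :
    ((x : (Alg n)ˣ) : Alg n) * e l = e (((proj n x : Equiv.Perm (Fin n))) l) * ((x : (Alg n)ˣ) : Alg n) :=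
  x.2.2.2.choose_spec.2 l

theorem proj_surjective : Function.Surjective (proj n) := by
  rintro ⟨σ, hσ⟩
  rw [Equiv.Perm.mem_alternatingGroup] at hσ
  obtain ⟨x, a, hx, h1, h2, hs, he⟩ := exists_lift σ
  rcases hs with ⟨rfl, -⟩ | ⟨-, h⟩
  swap
  · rw [hσ] at h; exact absurd h (by decide)
  have he' : ∀ l, x * e l = e (σ l) * x := fun l => by rw [he l, hσ]; simp
  let y : cover n := ⟨⟨x, reverse x, h1, h2⟩, hx, h1, σ, hσ, he'⟩
  exact ⟨y, Subtype.ext (perm_unique (x := (y : (Alg n)ˣ)) (proj_spec y) he')⟩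

/-- The central involution. -/
noncomputable def minusOne (n : ℕ) : cover n :=
  ⟨-1, by
    rw [Units.val_neg, Units.val_one]
    exact Submodule.neg_mem _ (SetLike.one_mem_graded (evenOdd (sq n))),
    by simp [map_neg], 1, map_one _, fun l => by simp⟩

theorem coe_minusOne : (((minusOne n) : (Alg n)ˣ) : Alg n) = -1 := rfl

theorem minusOne_ne_one : minusOne n ≠ 1 := by
  intro h
  have h1 : (algebraMap ℂ (Alg n)) (-1) = algebraMap ℂ (Alg n) 1 := by
    rw [map_neg, map_one, ← coe_minusOne, h]; rfl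
  have := algebraMap_injective n h1
  norm_num at this

theorem minusOne_mem_center : minusOne n ∈ Subgroup.center (cover n) :=
  Subgroup.mem_center_iff.mpr fun g => Subtype.ext (Units.ext (by simp [coe_minusOne]))

theorem orderOf_minusOne : orderOf (minusOne n) = 2 := by
  haveI : Fact (Nat.Prime 2) := ⟨Nat.prime_two⟩
  exact orderOf_eq_prime (Subtype.ext (Units.ext (by simp [coe_minusOne]))) minusOne_ne_one

theorem ker_proj : (proj n).ker = Subgroup.zpowers (minusOne n) := by
  refine le_antisymm (fun x hx => ?_) (Subgroup.zpowers_le.mpr ?_)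
  · rw [MonoidHom.mem_ker] at hx
    have hc : ∀ l, ((x : (Alg n)ˣ) : Alg n) * e l = e l * ((x : (Alg n)ˣ) : Alg n) := fun l => by
      rw [proj_spec, hx]; rfl
    obtain ⟨c, hc'⟩ := exists_scalar x.2.1 hc
    have h2 := x.2.2.1
    rw [hc', reverse.commutes, ← map_mul, ← map_one (algebraMap ℂ (Alg n))] at h2
    rcases mul_self_eq_one_iff.mp (algebraMap_injective n h2) with rfl | rfl
    · exact (show x = 1 from Subtype.ext (Units.ext (by rw [hc', map_one]; rfl))) ▸ one_mem _
    · exact (show x = minusOne n from Subtype.ext (Units.ext (by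
        rw [hc', map_neg, map_one, coe_minusOne]))) ▸ Subgroup.mem_zpowers _
  · exact MonoidHom.mem_ker.mpr (Subtype.ext (perm_unique
      (x := ((minusOne n : cover n) : (Alg n)ˣ)) (proj_spec _) (fun l => by simp [coe_minusOne])))

theorem finite_cover : Finite (cover n) := by
  have : Finite (proj n).ker := by
    rw [ker_proj]
    exact (isOfFinOrder_iff_pow_eq_one.mpr ⟨2, by norm_num, by
      rw [← orderOf_minusOne (n := n)]; exact pow_orderOf_eq_one _⟩).finite_zpowers
  have : Finite (cover n ⧸ (proj n).ker) :=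
    Finite.of_equiv _ (QuotientGroup.quotientKerEquivOfSurjective (proj n) proj_surjective).symm.toEquiv
  exact Finite.of_subgroup_quotient (proj n).ker

theorem minusOne_mem_commutator {i j k l : Fin n} (hij : i ≠ j) (hik : i ≠ k) (hil : i ≠ l)
    (hjk : j ≠ k) (hjl : j ≠ l) (hkl : k ≠ l) : minusOne n ∈ commutator (cover n) := by
  have swap' : ∀ p q r s : Fin n, p ≠ q → r ≠ s → ∀ m,
      (rootVec p q * rootVec r s) * e m =
        e ((Equiv.swap p q * Equiv.swap r s) m) * (rootVec p q * rootVec r s) := by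
    intro p q r s hpq hrs m
    rw [mul_assoc, rootVec_e hrs, mul_neg, ← mul_assoc, rootVec_e hpq, neg_mul, neg_neg, mul_assoc,
      Equiv.Perm.mul_apply]
  have mk : ∀ p q r s : Fin n, p ≠ q → r ≠ s →
      ∃ x : cover n, ((x : (Alg n)ˣ) : Alg n) = rootVec p q * rootVec r s := by
    intro p q r s hpq hrs
    have h1 : rootVec p q * rootVec r s * (rootVec r s * rootVec p q) = 1 := by
      rw [mul_assoc, ← mul_assoc (rootVec r s), rootVec_sq hrs, one_mul, rootVec_sq hpq]
    have h2 : rootVec r s * rootVec p q * (rootVec p q * rootVec r s) = 1 := by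
      rw [mul_assoc, ← mul_assoc (rootVec p q), rootVec_sq hpq, one_mul, rootVec_sq hrs]
    refine ⟨⟨⟨_, _, h1, h2⟩, ?_, ?_, Equiv.swap p q * Equiv.swap r s, ?_, swap' p q r s hpq hrs⟩, rfl⟩
    · exact ι_mul_ι_mem_evenOdd_zero _ _ _
    · show rootVec p q * rootVec r s * reverse (rootVec p q * rootVec r s) = 1
      rw [reverse.map_mul, reverse_rootVec, reverse_rootVec, h1]
    · rw [map_mul, Equiv.Perm.sign_swap hpq, Equiv.Perm.sign_swap hrs]; decide
  obtain ⟨a, ha⟩ := mk i j k l hij hkl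
  obtain ⟨b, hb⟩ := mk i k j l hik hjl
  -- the action of `a` on the root vectors of `b`
  have act : ∀ p q : Fin n, ((a : (Alg n)ˣ) : Alg n) * rootVec p q =
      rootVec ((Equiv.swap i j * Equiv.swap k l) p) ((Equiv.swap i j * Equiv.swap k l) q) *
        ((a : (Alg n)ˣ) : Alg n) := by
    intro p q
    have h := swap' i j k l hij hkl
    simp only [rootVec, map_smul, map_sub, mul_smul_comm, smul_mul_assoc, mul_sub, sub_mul]
    rw [ha]
    exact congrArg₂ (fun u v => _ • (u - v)) (h p) (h q)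
  have e1 : (Equiv.swap i j * Equiv.swap k l) i = j := by
    simp [Equiv.swap_apply_of_ne_of_ne hik hil]
  have e2 : (Equiv.swap i j * Equiv.swap k l) k = l := by
    simp [Equiv.swap_apply_of_ne_of_ne hil.symm hjl.symm]
  have e3 : (Equiv.swap i j * Equiv.swap k l) j = i := by
    simp [Equiv.swap_apply_of_ne_of_ne hjk hjl]
  have e4 : (Equiv.swap i j * Equiv.swap k l) l = k := by
    simp [Equiv.swap_apply_of_ne_of_ne hik.symm hjk.symm]
  have hanti : rootVec j l * rootVec i k = -(rootVec i k * rootVec j l) := by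
    refine eq_neg_of_add_eq_zero_left ?_
    show ι (sq n) _ * ι (sq n) _ + ι (sq n) _ * ι (sq n) _ = 0
    rw [ι_mul_ι_add_swap, polar_sq, Finset.sum_eq_zero fun m _ => ?_, mul_zero, map_zero]
    rcases eq_or_ne m j with rfl | hmj
    · simp [hij.symm, hjk]
    rcases eq_or_ne m l with rfl | hml
    · simp [hil.symm, hkl.symm]
    · simp [hmj, hml]
  have hab : ((a : (Alg n)ˣ) : Alg n) * ((b : (Alg n)ˣ) : Alg n) =
      -(((b : (Alg n)ˣ) : Alg n) * ((a : (Alg n)ˣ) : Alg n)) := by
    rw [hb, ← mul_assoc, act, mul_assoc, act, e1, e2, e3, e4, ← mul_assoc, hanti, neg_mul]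
  have hz : ⁅a, b⁆ = minusOne n := by
    have h1 : a * b = minusOne n * (b * a) :=
      Subtype.ext (Units.ext (by
        rw [Subgroup.coe_mul, Units.val_mul, hab, Subgroup.coe_mul, Units.val_mul, coe_minusOne,
          Subgroup.coe_mul, Units.val_mul, neg_one_mul]))
    rw [commutatorElement_def, h1]
    group
  rw [← hz, commutator_def]
  exact Subgroup.commutator_mem_commutator (Subgroup.mem_top a) (Subgroup.mem_top b)

end CfsgLib.AltCover
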