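import Mathlib.LinearAlgebra.CliffordAlgebra.Contraction
import Mathlib.LinearAlgebra.CliffordAlgebra.Conjugation
import Mathlib.LinearAlgebra.CliffordAlgebra.Fold
import Mathlib.LinearAlgebra.CliffordAlgebra.Grading
import Mathlib.LinearAlgebra.ExteriorAlgebra.Basic
import Mathlib.LinearAlgebra.QuadraticForm.Basic
import Mathlib.LinearAlgebra.Eigenspace.Basic
import Mathlib.Data.Complex.Basic

/-!
# The even centre of a non-degenerate Clifford algebra
-/

set_option autoImplicit false

namespace CfsgLib.AltCover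

open CliffordAlgebra

variable {n : ℕ}

/-- The sum of squares. -/
noncomputable abbrev sq (n : ℕ) : QuadraticForm ℂ (Fin n → ℂ) :=
  QuadraticMap.weightedSumSquares ℂ (1 : Fin n → ℂ)

theorem sq_apply (v : Fin n → ℂ) : sq n v = ∑ i, v i * v i := by simp

theorem polar_sq (v w : Fin n → ℂ) : QuadraticMap.polar (sq n) v w = 2 * ∑ i, v i * w i := by
  simp only [QuadraticMap.polar, sq_apply, Pi.add_apply, Finset.mul_sum, ← Finset.sum_sub_distrib]
  exact Finset.sum_congr rfl fun i _ => by ring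

/-- Commutation of a generator with an element, up to the grade involution. -/
theorem ι_mul_sub (v : Fin n → ℂ) (x : CliffordAlgebra (sq n)) :
    ι (sq n) v * x - involute x * ι (sq n) v =
      contractLeft (Q := sq n) ((sq n).polarBilin v) x := by
  induction x using CliffordAlgebra.left_induction with
  | algebraMap r =>
    rw [AlgHom.commutes, contractLeft_algebraMap, Algebra.commutes r (ι (sq n) v), sub_self]
  | add a b ha hb => rw [mul_add, map_add, add_mul, map_add, ← ha, ← hb]; abel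
  | ι_mul a m ha =>
    rw [contractLeft_ι_mul, ← ha, map_mul, involute_ι, QuadraticMap.polarBilin_apply_apply,
      Algebra.smul_def, ← ι_mul_ι_add_swap]
    noncomm_ring

/-- The degree operator of the exterior algebra. -/
noncomputable def deg (n : ℕ) :
    ExteriorAlgebra ℂ (Fin n → ℂ) →ₗ[ℂ] ExteriorAlgebra ℂ (Fin n → ℂ) :=
  ∑ i : Fin n, (LinearMap.mulLeft ℂ (ExteriorAlgebra.ι ℂ (Pi.single i (1 : ℂ)))).comp
    (contractLeft (Q := (0 : QuadraticForm ℂ (Fin n → ℂ))) (LinearMap.proj i))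

theorem deg_apply (x : ExteriorAlgebra ℂ (Fin n → ℂ)) :
    deg n x = ∑ i : Fin n, ExteriorAlgebra.ι ℂ (Pi.single i (1 : ℂ)) *
      contractLeft (Q := (0 : QuadraticForm ℂ (Fin n → ℂ))) (LinearMap.proj i) x := by
  simp [deg, LinearMap.sum_apply]

theorem deg_ι_mul (v : Fin n → ℂ) (x : ExteriorAlgebra ℂ (Fin n → ℂ)) :
    deg n (ExteriorAlgebra.ι ℂ v * x) =
      ExteriorAlgebra.ι ℂ v * x + ExteriorAlgebra.ι ℂ v * deg n x := by
  have hv : ExteriorAlgebra.ι ℂ v = ∑ i : Fin n, v i • ExteriorAlgebra.ι ℂ (Pi.single i (1 : ℂ)) := by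
    conv_lhs => rw [pi_eq_sum_univ' v, map_sum]
    exact Finset.sum_congr rfl fun i _ => map_smul _ _ _
  have hswap : ∀ i : Fin n, ExteriorAlgebra.ι ℂ (Pi.single i (1 : ℂ)) * ExteriorAlgebra.ι ℂ v =
      -(ExteriorAlgebra.ι ℂ v * ExteriorAlgebra.ι ℂ (Pi.single i (1 : ℂ))) := fun i =>
    eq_neg_of_add_eq_zero_left (ExteriorAlgebra.ι_add_mul_swap _ _)
  have hd : ∀ i : Fin n, ExteriorAlgebra.ι ℂ (Pi.single i (1 : ℂ)) *
      contractLeft (Q := (0 : QuadraticForm ℂ (Fin n → ℂ))) (LinearMap.proj i)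
        (ExteriorAlgebra.ι ℂ v * x) =
      (v i • ExteriorAlgebra.ι ℂ (Pi.single i (1 : ℂ))) * x +
        ExteriorAlgebra.ι ℂ v * (ExteriorAlgebra.ι ℂ (Pi.single i (1 : ℂ)) *
          contractLeft (Q := (0 : QuadraticForm ℂ (Fin n → ℂ))) (LinearMap.proj i) x) := by
    intro i
    have e := contractLeft_ι_mul (Q := (0 : QuadraticForm ℂ (Fin n → ℂ))) (d := LinearMap.proj i) v x
    simp only [LinearMap.proj_apply] at e
    rw [show contractLeft (Q := (0 : QuadraticForm ℂ (Fin n → ℂ))) (LinearMap.proj i)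
      (ExteriorAlgebra.ι ℂ v * x) = _ from e, mul_sub, mul_smul_comm, smul_mul_assoc,
      ← mul_assoc, ← mul_assoc]
    rw [show ExteriorAlgebra.ι ℂ (Pi.single i (1 : ℂ)) * CliffordAlgebra.ι (0 : QuadraticForm ℂ (Fin n → ℂ)) v
      = _ from hswap i]
    rw [neg_mul, sub_neg_eq_add]
  rw [deg_apply, deg_apply, Finset.sum_congr rfl fun i _ => hd i, Finset.sum_add_distrib,
    ← Finset.sum_mul, ← hv, ← Finset.mul_sum]

/-- An element killed by all contractions is a scalar. -/
theorem exists_scalar_exterior (x : ExteriorAlgebra ℂ (Fin n → ℂ))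
    (hx : ∀ i : Fin n,
      contractLeft (Q := (0 : QuadraticForm ℂ (Fin n → ℂ))) (LinearMap.proj i) x = 0) :
    ∃ c : ℂ, x = algebraMap ℂ _ c := by
  set E : ℕ → Submodule ℂ (ExteriorAlgebra ℂ (Fin n → ℂ)) :=
    fun k => Module.End.eigenspace (deg n) (k : ℂ) with hE
  have hmem : ∀ {k y}, y ∈ E k ↔ deg n y = (k : ℂ) • y := fun {k y} => Module.End.mem_eigenspace_iff
  have hc : ∀ r : ℂ, algebraMap ℂ (ExteriorAlgebra ℂ (Fin n → ℂ)) r ∈ E 0 := fun r => by
    rw [hmem, deg_apply, Finset.sum_eq_zero fun i _ => by rw [contractLeft_algebraMap, mul_zero],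
      Nat.cast_zero, zero_smul]
  have hstep : ∀ v k y, y ∈ E k → ExteriorAlgebra.ι ℂ v * y ∈ E (k + 1) := fun v k y hy => by
    rw [hmem] at hy ⊢
    rw [deg_ι_mul, hy, mul_smul_comm]
    push_cast
    rw [add_smul, one_smul, add_comm]
  have hall : ∀ y : ExteriorAlgebra ℂ (Fin n → ℂ),
      ∃ c : ℂ, y - algebraMap ℂ _ c ∈ ⨆ k : ℕ, E (k + 1) := by
    intro y
    induction y using CliffordAlgebra.left_induction with
    | algebraMap r => exact ⟨r, by simp⟩
    | add a b ha hb =>
      obtain ⟨c, hc⟩ := ha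
      obtain ⟨d, hd⟩ := hb
      exact ⟨c + d, by
        have := Submodule.add_mem _ hc hd
        rwa [map_add, add_sub_add_comm]⟩
    | ι_mul a m ha =>
      obtain ⟨c, hc'⟩ := ha
      refine ⟨0, ?_⟩
      have h1 : ExteriorAlgebra.ι ℂ m * (a - algebraMap ℂ _ c) ∈ ⨆ k : ℕ, E (k + 1) := by
        refine Submodule.iSup_induction (fun k : ℕ => E (k + 1))
          (motive := fun z => ExteriorAlgebra.ι ℂ m * z ∈ ⨆ k : ℕ, E (k + 1)) hc'
          (fun k z hz => ?_) (by simp) (fun z w hz hw => ?_)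
        · exact Submodule.mem_iSup_of_mem (k + 1) (hstep m _ z hz)
        · rw [mul_add]; exact Submodule.add_mem _ hz hw
      have h2 : ExteriorAlgebra.ι ℂ m * algebraMap ℂ _ c ∈ ⨆ k : ℕ, E (k + 1) :=
        Submodule.mem_iSup_of_mem 0 (hstep m _ _ (hc c))
      rw [map_zero, sub_zero]
      have := Submodule.add_mem _ h1 h2
      rwa [← mul_add, sub_add_cancel] at this
  obtain ⟨c, hc'⟩ := hall x
  refine ⟨c, sub_eq_zero.mp ?_⟩
  have h0 : x - algebraMap ℂ _ c ∈ E 0 := by
    refine Submodule.sub_mem _ ?_ (hc c)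
    rw [hmem, deg_apply, Finset.sum_eq_zero fun i _ => by rw [hx i, mul_zero], Nat.cast_zero,
      zero_smul]
  have hdis : Disjoint (E 0) (⨆ k : ℕ, E (k + 1)) := by
    refine ((Module.End.eigenspaces_iSupIndep (deg n)) (0 : ℂ)).mono (by simp [hE]) ?_
    refine iSup_le fun k => le_iSup₂_of_le ((k + 1 : ℕ) : ℂ) ?_ le_rfl
    exact_mod_cast Nat.succ_ne_zero k
  exact (Submodule.mem_bot ℂ).mp (hdis.eq_bot ▸ Submodule.mem_inf.mpr ⟨h0, hc'⟩)

/-- An even element commuting with all generators is a scalar. -/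
theorem exists_scalar {x : CliffordAlgebra (sq n)} (hx : x ∈ evenOdd (sq n) 0)
    (hc : ∀ i : Fin n, x * ι (sq n) (Pi.single i (1 : ℂ)) = ι (sq n) (Pi.single i (1 : ℂ)) * x) :
    ∃ c : ℂ, x = algebraMap ℂ _ c := by
  have hd : ∀ i : Fin n, contractLeft (Q := sq n) (LinearMap.proj i) x = 0 := by
    intro i
    have h := ι_mul_sub (Pi.single i (1 : ℂ)) x
    rw [involute_eq_of_mem_even hx, hc i, sub_self] at h
    have e : (LinearMap.proj i : Module.Dual ℂ (Fin n → ℂ)) =
        (2 : ℂ)⁻¹ • (sq n).polarBilin (Pi.single i (1 : ℂ)) := by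
      refine LinearMap.ext fun w => ?_
      rw [LinearMap.smul_apply, QuadraticMap.polarBilin_apply_apply, polar_sq]
      simp [Pi.single_apply]
    rw [e, map_smul, LinearMap.smul_apply, ← h, smul_zero]
  haveI : Invertible (2 : ℂ) := invertibleOfNonzero two_ne_zero
  obtain ⟨c, hcx⟩ := exists_scalar_exterior (equivExterior (sq n) x) fun i => by
    have := changeForm_contractLeft (Q := sq n) (Q' := (0 : QuadraticForm ℂ (Fin n → ℂ)))
      changeForm.associated_neg_proof (LinearMap.proj i) x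
    rw [hd i, map_zero] at this
    exact this.symm
  refine ⟨c, (equivExterior (sq n)).injective ?_⟩
  rw [hcx]
  exact (changeForm_algebraMap changeForm.associated_neg_proof c).symm

theorem algebraMap_injective (n : ℕ) :
    Function.Injective (algebraMap ℂ (CliffordAlgebra (sq n))) := by
  haveI : Invertible (2 : ℂ) := invertibleOfNonzero two_ne_zero
  intro a b h
  have := congrArg (changeForm (changeForm.associated_neg_proof (Q := sq n))) h
  rw [changeForm_algebraMap, changeForm_algebraMap] at this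
  exact (ExteriorAlgebra.algebraMap_inj _ _ _).mp this

theorem ι_injective (n : ℕ) : Function.Injective (ι (sq n)) := by
  haveI : Invertible (2 : ℂ) := invertibleOfNonzero two_ne_zero
  intro a b h
  have := congrArg (changeForm (changeForm.associated_neg_proof (Q := sq n))) h
  rw [changeForm_ι, changeForm_ι] at this
  exact (ExteriorAlgebra.ι_inj ℂ a b).mp this

end CfsgLib.AltCover
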